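import Cfsg.Agent.H928.Ore.Frame
import Cfsg.Agent.H162.GaussExc
import Cfsg.Agent.ChevalleyStructure.FieldIso
import Cfsg.Agent.FastGrp
import Cfsg.Agent.Prune
set_option linter.all false
prune_inst 0x7f00000000000000000000000000000000000000000000000000000000000000000000000000000000000000000000000000000000000000000000000000000000000000000000000000000000000000003fffffffffffffffffffffffffffbeffbdffffffff
open scoped Cfsg.Agent.FastGrp

-- part: H482/Ore/Bc
section
/-!
Base change `D.group K → D.group K'` and fixed points of elements of Levi subgroups (S2443, S4171).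

* `bc`, `bc_xc`, `bc_TT`, `ch_bc`, `bc_VJ`, `bc_VNJ` : base change and its effect on root elements, the torus, unipotent radicals;
* `NF.of_pow` : fixed points of a power.
-/

set_option autoImplicit false
set_option linter.unusedSectionVars false

namespace Cfsg.Agent.H482.Ore.Fix

open CoxeterSystem Cfsg.Agent.ChevalleyStructure.CoxeterGeom Cfsg.Agent.Tits.Roots Cfsg.Agent.Tits.Core
  Cfsg.Agent.Nodes.Reps Cfsg.Agent.Nodes.BNOf Cfsg.Agent.Nodes.RGDLib Cfsg.Agent.Nodes.Bruhat
  Cfsg.Agent.Nodes.OppDec Cfsg.Agent.Nodes.LeviDec Cfsg.Agent.Nodes.KindChev Cfsg.Agent.Nodes.ChevCls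
  Cfsg.Agent.OddHalf.NI.Mult Cfsg.Agent.OddHalf.NI.ModelChev
  Cfsg.Agent.H162.GaussDec Cfsg.Agent.H162.GaussLevi Cfsg.Agent.H162.GaussSL Cfsg.Agent.H162.GaussReg
  Cfsg.Agent.H162.GaussMain Cfsg.Agent.H162.GaussPQ Cfsg.Agent.H162.GaussExc
open Cfsg.Lie Cfsg.Agent.ChevalleyStructure Cfsg.Agent.ChevalleyStructure.Elts
  Cfsg.Agent.ChevalleyStructure.RootVec Cfsg.Agent.ChevalleyStructure.NPerm
  Cfsg.Agent.ChevalleyStructure.CoxeterGeomTypes Cfsg.Agent.Nodes.RGDChev Cfsg.Agent.KFacts.RgdChevCoord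
open Cfsg.Agent.H928.Ore.Frame

universe u v

/-- fixed points of a power -/
theorem NF.of_pow {Y : Type*} [Group Y] {V : Subgroup Y} {c : Y} (k : ℕ) (h : NF V (c ^ k)) : NF V c :=
  fun x hx hc => h x hx (conj_pow_fix hc k)

/-- conjugation by an element normalizing `V` -/
theorem NF.of_conj {Y : Type*} [Group Y] {V : Subgroup Y} {c y : Y} (hy : y ∈ Subgroup.normalizer (V : Set Y))
    (h : NF V (y * c * y⁻¹)) : NF V c := by
  intro x hx hc
  have h1 := h (y * x * y⁻¹) ((Subgroup.mem_normalizer_iff.1 hy x).1 hx) (by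
    calc y * c * y⁻¹ * (y * x * y⁻¹) * (y * c * y⁻¹)⁻¹ = y * (c * x * c⁻¹) * y⁻¹ := by group
      _ = _ := by rw [hc])
  have h2 : x = y⁻¹ * (y * x * y⁻¹) * y := by group
  rw [h2, h1]; group

variable (D : ChevalleyDatum) {l : ℕ} {M : CoxeterMatrix (Fin l)} (hp : IsType D l M)
variable {K : Type u} {K' : Type v} [Field K] [Field K']

theorem map_group_le (f : K →+* K') :
    (D.group K).map (Matrix.GeneralLinearGroup.map (n := D.Idx) f) ≤ D.group K' := by
  rw [ChevalleyDatum.group, MonoidHom.map_closure, ChevalleyDatum.group]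
  refine Subgroup.closure_mono ?_
  rintro _ ⟨h, ⟨r, t, hh⟩, rfl⟩
  refine ⟨r, f t, ?_⟩
  change ((h : Matrix D.Idx D.Idx K)).map f = _
  rw [hh]
  exact FieldIso.map_xMat D f r t

/-- the base change homomorphism -/
noncomputable def bc (f : K →+* K') : ↥(D.group K) →* ↥(D.group K') :=
  ((Matrix.GeneralLinearGroup.map (n := D.Idx) f).comp (D.group K).subtype).codRestrict (D.group K')
    fun x => map_group_le D f ⟨x, x.2, rfl⟩

variable {D}

theorem coe_bc (f : K →+* K') (g : ↥(D.group K)) :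
    (((bc D f g : ↥(D.group K')) : GL D.Idx K') : Matrix D.Idx D.Idx K') =
      (((g : GL D.Idx K) : Matrix D.Idx D.Idx K)).map f := rfl

theorem bc_injective (f : K →+* K') : Function.Injective (bc D f) := by
  intro x y h
  have h1 := congrArg (fun g : ↥(D.group K') => ((g : GL D.Idx K') : Matrix D.Idx D.Idx K')) h
  change (((x : GL D.Idx K) : Matrix D.Idx D.Idx K)).map f = (((y : GL D.Idx K) : Matrix D.Idx D.Idx K)).map f at h1
  apply Subtype.ext
  apply Units.ext
  exact Matrix.map_injective f.injective h1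

theorem coe_xG' {r : ℕ} (hr : r < D.nroots) (t : K) :
    (((xc hp (vec D l r) t : ↥(D.group K)) : GL D.Idx K) : Matrix D.Idx D.Idx K) = D.xMat K ⟨r, hr⟩ t := by
  rw [coe_xc hp hr, coe_xG, x_of_lt hr]

theorem bc_xc (f : K →+* K') {r : ℕ} (hr : r < D.nroots) (t : K) :
    bc D f (xc hp (vec D l r) t) = xc hp (vec D l r) (f t) := by
  apply Subtype.ext
  apply Units.ext
  rw [coe_bc, coe_xG' hp hr, coe_xG' hp hr]
  exact FieldIso.map_xMat D f _ t

theorem map_xG (f : K →+* K') (hD : InList D) {r : ℕ} (hr : r < D.nroots) (t : K) :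
    Matrix.GeneralLinearGroup.map (n := D.Idx) f (xG hD r t) = xG hD r (f t) := by
  apply Units.ext
  change (((xG hD r t : GL D.Idx K) : Matrix D.Idx D.Idx K)).map f = _
  rw [coe_xG, coe_xG, x_of_lt hr, x_of_lt hr]
  exact FieldIso.map_xMat D f _ t

theorem map_nG (f : K →+* K') (hD : InList D) {r : ℕ} (hr : r < D.nroots) (t : K) :
    Matrix.GeneralLinearGroup.map (n := D.Idx) f (nG hD r t) = nG hD r (f t) := by
  rw [nG_def, nG_def, map_mul, map_mul, map_xG f hD hr, map_xG f hD (_root_.Cfsg.Agent.ChevalleyStructure.NPerm.neg_lt hD hr), map_neg, map_inv₀]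

theorem map_hG (f : K →+* K') (hD : InList D) {r : ℕ} (hr : r < D.nroots) (t : K) :
    Matrix.GeneralLinearGroup.map (n := D.Idx) f (hG hD r t) = hG hD r (f t) := by
  rw [hG_def, hG_def, map_mul, map_nG f hD hr, map_nG f hD hr, map_neg, map_one]

include hp in
theorem bc_TT (f : K →+* K') {t : ↥(D.group K)} (ht : t ∈ TT D K) : bc D f t ∈ TT D K' := by
  have h1 : D.diagonalSubgroup K ≤ (D.diagonalSubgroup K').comap (Matrix.GeneralLinearGroup.map (n := D.Idx) f) := by
    rw [ChevalleyDatum.diagonalSubgroup, Subgroup.closure_le]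
    rintro g ⟨r, t, hr, ht, hg⟩
    rw [← eq_hG_iff hp.inList] at hg
    subst hg
    change Matrix.GeneralLinearGroup.map (n := D.Idx) f (hG hp.inList r t) ∈ D.diagonalSubgroup K'
    rw [map_hG f hp.inList hr]
    exact hG_mem_diagonal hp.inList hr ((map_ne_zero f).2 ht)
  exact h1 ht

theorem ch_bc (f : K →+* K') {r : ℕ} (hr : r < D.nroots) {t : ↥(D.group K)} (ht : t ∈ TT D K) :
    ch hp (vec D l r) (bc D f t) = f (ch hp (vec D l r) t) := by
  refine ch_eq hp hr (bc_TT hp f ht) ?_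
  have h1 := congrArg (bc D f) ((act hp hr ht).2 1)
  rw [map_mul, map_mul, map_inv, bc_xc hp f hr, bc_xc hp f hr, map_one, mul_one] at h1
  exact h1

theorem bc_Sup (f : K →+* K') {S : Set (Fin l → ℤ)} (hS : ∀ x ∈ S, IsRoot M.toCoxeterSystem hp.isCartan x)
    {a : ↥(D.group K)} (ha : a ∈ RGD.Sup (XX D l K) S) : bc D f a ∈ RGD.Sup (XX D l K') S := by
  have h1 : RGD.Sup (XX D l K) S ≤ (RGD.Sup (XX D l K') S).comap (bc D f) := by
    refine RGD.Sup_le fun x hx => ?_
    obtain ⟨r, hr, rfl⟩ := (isRoot_iff hp _ x).1 (hS x hx)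
    intro y hy
    obtain ⟨c, rfl⟩ := (mem_XX hp hr y).1 hy
    rw [Subgroup.mem_comap, bc_xc hp f hr]
    exact RGD.le_Sup hx ((mem_XX hp hr _).2 ⟨_, rfl⟩)
  exact h1 ha

theorem bc_VJ (f : K →+* K') {J : Set (Fin l)} {a : ↥(D.group K)}
    (ha : a ∈ VJ M.toCoxeterSystem hp.isCartan (XX D l K) J) :
    bc D f a ∈ VJ M.toCoxeterSystem hp.isCartan (XX D l K') J :=
  bc_Sup hp f (fun _ hx => hx.1) ha

theorem bc_VNJ (f : K →+* K') {J : Set (Fin l)} {a : ↥(D.group K)}
    (ha : a ∈ VNJ M.toCoxeterSystem hp.isCartan (XX D l K) J) :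
    bc D f a ∈ VNJ M.toCoxeterSystem hp.isCartan (XX D l K') J :=
  bc_Sup hp f (fun x hx => by
    have h1 := (show -x ∈ Cfsg.Agent.Nodes.StabComb.NotJ M.toCoxeterSystem hp.isCartan J from hx).1.neg
    have h2 : - -x = x := by ext k; simp
    rwa [h2] at h1) ha

theorem nf_of_bc (f : K →+* K') {J : Set (Fin l)} {c : ↥(D.group K)}
    (h : NF (VJ M.toCoxeterSystem hp.isCartan (XX D l K') J) (bc D f c)) :
    NF (VJ M.toCoxeterSystem hp.isCartan (XX D l K) J) c := by
  intro x hx hc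
  have h1 := h _ (bc_VJ hp f hx) (by rw [← map_inv, ← map_mul, ← map_mul, hc])
  exact bc_injective f (by rw [h1, map_one])

theorem nfn_of_bc (f : K →+* K') {J : Set (Fin l)} {c : ↥(D.group K)}
    (h : NF (VNJ M.toCoxeterSystem hp.isCartan (XX D l K') J) (bc D f c)) :
    NF (VNJ M.toCoxeterSystem hp.isCartan (XX D l K) J) c := by
  intro x hx hc
  have h1 := h _ (bc_VNJ hp f hx) (by rw [← map_inv, ← map_mul, ← map_mul, hc])
  exact bc_injective f (by rw [h1, map_one])

/-- an element of the torus without trivial characters outside `J` has no fixed points -/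
theorem nf_torus [Finite K] (p : ℕ) [Fact p.Prime] [CharP K p] {J : Set (Fin l)} {t : ↥(D.group K)} (ht : t ∈ TT D K)
    (hout : ∀ q < D.nroots, (∃ k, k ∉ J ∧ vec D l q k ≠ 0) → ch hp (vec D l q) t ≠ 1) :
    NF (VJ M.toCoxeterSystem hp.isCartan (XX D l K) J) t ∧ NF (VNJ M.toCoxeterSystem hp.isCartan (XX D l K) J) t := by
  have hf : NoFix M.toCoxeterSystem hp.isCartan (XX D l K) J t := by
    intro x hx hk a ha hsa
    obtain ⟨r, hr, rfl⟩ := (isRoot_iff hp _ x).1 hx
    obtain ⟨c, rfl⟩ := (mem_XX hp hr a).1 ha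
    rw [(act hp hr ht).2] at hsa
    have h3 := xc_inj hp hr hsa
    by_cases hc : c = 0
    · rw [hc, xc_zero hp hr]
    · exfalso
      apply hout r hr hk
      exact mul_right_cancel₀ hc (by rw [h3, one_mul])
  have := finite_W hp M.toCoxeterSystem
  have R := rgd (K := K) hp M.toCoxeterSystem p
  exact ⟨fun x hx hc => fix_VJ R ht hf hx hc, fun x hx hc => fix_VNJ R ht hf hx hc⟩

end Cfsg.Agent.H482.Ore.Fix
end

-- part: H482/Ore/Fix
section
/-!
# Fixed points of `s₀ φ(X)` on the unipotent radicals, by base change (S2443, S4171)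

`φ : SL_{n+2}(K) → D.group K` with root elements `φ(1 + c E_ab) = x_{r a b}(s_ab c)`; `X` is diagonalizable over `K'` with
eigenvalues `lam b`.  `wt D j q b = ∑_{a ≥ b} ⟨q, α_{j a}^∨⟩` is the exponent of `lam b` in the character of the root `q`.

* `SimpB` : the simple roots of the block;
* `nf_block` : no fixed points if all the characters of the roots outside `J` are non-trivial;
* `exists_diag` : a matrix whose characteristic polynomial has distinct roots in `K'` is diagonalizable over `K'`.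
-/

set_option autoImplicit false
set_option linter.unusedSectionVars false

namespace Cfsg.Agent.H482.Ore.Fix

open CoxeterSystem Cfsg.Agent.ChevalleyStructure.CoxeterGeom Cfsg.Agent.Tits.Roots Cfsg.Agent.Tits.Core
  Cfsg.Agent.Nodes.Reps Cfsg.Agent.Nodes.BNOf Cfsg.Agent.Nodes.RGDLib Cfsg.Agent.Nodes.Bruhat
  Cfsg.Agent.Nodes.OppDec Cfsg.Agent.Nodes.LeviDec Cfsg.Agent.Nodes.KindChev Cfsg.Agent.Nodes.ChevCls
  Cfsg.Agent.OddHalf.NI.Mult Cfsg.Agent.OddHalf.NI.ModelChev
  Cfsg.Agent.H162.GaussDec Cfsg.Agent.H162.GaussLevi Cfsg.Agent.H162.GaussSL Cfsg.Agent.H162.GaussReg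
  Cfsg.Agent.H162.GaussMain Cfsg.Agent.H162.GaussPQ Cfsg.Agent.H162.GaussExc
open Cfsg.Lie Cfsg.Agent.ChevalleyStructure Cfsg.Agent.ChevalleyStructure.Elts
  Cfsg.Agent.ChevalleyStructure.RootVec Cfsg.Agent.ChevalleyStructure.NPerm
  Cfsg.Agent.ChevalleyStructure.CoxeterGeomTypes Cfsg.Agent.Nodes.RGDChev Cfsg.Agent.KFacts.RgdChevCoord
open Cfsg.Agent.H928.Ore.Frame Matrix
open Cfsg.Agent.FixBN.FieldRGD (uu vv dd ww)

universe u v

/-! ### Diagonal matrices -/

section diag

variable {K : Type u} [Field K] {m : ℕ}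

/-- the diagonal matrix in `SL` -/
def dgl (lam : Fin m → K) (h : ∏ b, lam b = 1) : _root_.Matrix.SpecialLinearGroup (Fin m) K :=
  ⟨diagonal lam, by rw [det_diagonal, h]⟩

theorem tv_mulVec {a b : Fin m} (hab : a ≠ b) (c : K) (x : Fin m → K) :
    (SpecialLinearGroup.transvection hab c).1 *ᵥ x = Function.update x a (x a + c * x b) := by
  change (1 + single a b c) *ᵥ x = _
  rw [add_mulVec, one_mulVec]
  funext k
  rw [Pi.add_apply]
  by_cases hk : k = a
  · subst hk
    rw [Function.update_self]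
    congr 1
    simp only [mulVec, dotProduct, single_apply, _root_.true_and, _root_.ite_mul, _root_.MulZeroClass.zero_mul, _root_.Finset.sum_ite_eq, _root_.Finset.mem_univ, ↓ _root_.reduceIte]
  · rw [Function.update_of_ne hk]
    have : (single a b c *ᵥ x) k = 0 := by
      simp [mulVec, dotProduct, single_apply, Ne.symm hk]
    rw [this, add_zero]

/-- `diag(.., u, u⁻¹, ..)` -/
def hab' (a b : Fin m) (hab : a ≠ b) (u : Kˣ) : _root_.Matrix.SpecialLinearGroup (Fin m) K :=
  dgl (fun k => if k = a then (u : K) else if k = b then ((u⁻¹ : Kˣ) : K) else 1) (by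
    rw [← Finset.mul_prod_erase _ _ (Finset.mem_univ a), if_pos rfl,
      ← Finset.mul_prod_erase _ _ (Finset.mem_erase.2 ⟨hab.symm, Finset.mem_univ b⟩), if_neg hab.symm, if_pos rfl]
    rw [Finset.prod_eq_one, mul_one, ← Units.val_mul, mul_inv_cancel, Units.val_one]
    intro k hk
    rw [Finset.mem_erase, Finset.mem_erase] at hk
    rw [if_neg hk.2.1, if_neg hk.1])

theorem hab_word {a b : Fin m} (hab : a ≠ b) (u : Kˣ) :
    hab' a b hab u = SpecialLinearGroup.transvection hab (u : K) *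
      (SpecialLinearGroup.transvection hab.symm (-((u : K)⁻¹)) *
      (SpecialLinearGroup.transvection hab (u : K) * (SpecialLinearGroup.transvection hab (-1 : K) *
      (SpecialLinearGroup.transvection hab.symm (1 : K) * SpecialLinearGroup.transvection hab (-1 : K))))) := by
  apply Subtype.ext
  refine Matrix.ext_of_mulVec_single fun i => ?_
  generalize (Pi.single i 1 : Fin m → K) = x
  change diagonal _ *ᵥ x = (_ * (_ * (_ * (_ * (_ * _))))) *ᵥ x
  rw [← mulVec_mulVec, ← mulVec_mulVec, ← mulVec_mulVec, ← mulVec_mulVec, ← mulVec_mulVec]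
  rw [tv_mulVec, tv_mulVec, tv_mulVec, tv_mulVec, tv_mulVec, tv_mulVec]
  have hu : (u : K) ≠ 0 := u.ne_zero
  funext k
  rw [mulVec_diagonal]
  by_cases hk : k = a
  · subst hk
    simp only [Function.update_of_ne hab, Function.update_of_ne hab.symm, ↓ _root_.reduceIte, _root_.neg_mul, _root_.one_mul, _root_.Function.update_self, _root_.add_neg_cancel_comm_assoc, _root_.add_neg_cancel_comm, _root_.Function.update_idem]
    try field_simp
    try ring
  · by_cases hk' : k = b
    · subst hk'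
      simp only [Function.update_of_ne hab, Function.update_of_ne hab.symm, hk, ↓ _root_.reduceIte, _root_.Units.val_inv_eq_inv_val, _root_.neg_mul, _root_.one_mul, _root_.ne_eq, _root_.not_false_eq_true, _root_.Function.update_of_ne, _root_.Function.update_self, _root_.add_neg_cancel_comm_assoc, _root_.add_neg_cancel_comm, _root_.Function.update_idem]
      try field_simp
      try ring
    · simp only [Function.update_of_ne, hk, hk', ↓ _root_.reduceIte, _root_.one_mul, _root_.neg_mul, _root_.Function.update_self, _root_.neg_add_rev, _root_.neg_neg, _root_.Function.update_idem, _root_.ne_eq, _root_.not_false_eq_true]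

end diag

/-! ### The image of the diagonal matrices -/

/-- the simple roots of the block -/
structure SimpB (D : ChevalleyDatum) (l n : ℕ) (r : Fin (n + 2) → Fin (n + 2) → ℕ) (j : Fin (n + 1) → Fin l) :
    Prop where
  up : ∀ a, r a.castSucc a.succ = D.simple (j a)
  dn : ∀ a, r a.succ a.castSucc = D.neg (D.simple (j a))

/-- the exponent of `lam b` in the character of the root `q` -/
def wt (D : ChevalleyDatum) {l n : ℕ} (j : Fin (n + 1) → Fin l) (q : ℕ) (b : Fin (n + 2)) : ℤ :=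
  ∑ a : Fin (n + 1), if b ≤ a.castSucc then D.cartan (j a) q else 0

variable {D : ChevalleyDatum} {l : ℕ} {M : CoxeterMatrix (Fin l)} (hp : IsType D l M)

section phi

variable {K : Type u} [Field K] {n : ℕ} {r : Fin (n + 2) → Fin (n + 2) → ℕ} {j : Fin (n + 1) → Fin l}
  (S : SimpB D l n r j)
  {φ : _root_.Matrix.SpecialLinearGroup (Fin (n + 2)) K →* ↥(D.group K)} {s : Fin (n + 2) → Fin (n + 2) → K}
  (hφ : ∀ a b (hab : a ≠ b) c, φ (SpecialLinearGroup.transvection hab c) = xc hp (_root_.Cfsg.Agent.Nodes.RGDChev.vec D l (r a b)) (s a b * c))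
  (hss : ∀ a : Fin (n + 1), s a.castSucc a.succ * s a.succ a.castSucc = 1)

include S hφ hss

theorem phi_hab (a : Fin (n + 1)) (u : Kˣ) : φ (hab' a.castSucc a.succ (cs_ne a) u) = hc hp (j a) (u : K) := by
  have e1 := vec_simple hp (j a)
  have e2 : _root_.Cfsg.Agent.Nodes.RGDChev.vec D l (D.neg (D.simple (j a))) = -sr (j a) := by
    rw [_root_.Cfsg.Agent.Nodes.RGDChev.vec_neg hp (_root_.Cfsg.Agent.ChevalleyStructure.NPerm.simple_lt hp.inList (lt_rank hp (j a))), e1]
  have h1 := hss a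
  rw [hab_word]
  simp only [map_mul]
  rw [hφ, hφ, hφ, hφ, S.up, S.dn, e1, e2]
  set s1 := s a.castSucc a.succ with hs1
  set s2 := s a.succ a.castSucc with hs2
  have hs0 : s1 ≠ 0 := left_ne_zero_of_mul_eq_one h1
  have hs2' : s2 = s1⁻¹ := eq_inv_of_mul_eq_one_right h1
  rw [hs2', ← sl_uu, ← sl_uu, ← sl_vv, ← sl_vv, ← map_mul, ← map_mul, ← map_mul, ← map_mul, ← map_mul,
    ← sl_dd hp (j a) (u : K) u.ne_zero]
  congr 1
  have hu : (u : K) ≠ 0 := u.ne_zero
  apply Subtype.ext
  show !![1, s1 * (u : K); 0, 1] * (!![1, 0; s1⁻¹ * -((u : K)⁻¹), 1] * (!![1, s1 * (u : K); 0, 1] *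
    (!![1, s1 * -1; 0, 1] * (!![1, 0; s1⁻¹ * 1, 1] * !![1, s1 * -1; 0, 1])))) = !![(u : K), 0; 0, (u : K)⁻¹]
  simp only [Matrix.mul_fin_two]
  congr 1
  ext i k
  (revert i k; simp only [_root_.Fin.forall_fin_succ, _root_.Nat.succ_eq_add_one, Nat.reduceAdd, _root_.mul_one, _root_.MulZeroClass.mul_zero, _root_.add_zero, _root_.mul_neg, _root_.neg_mul, _root_.one_mul, _root_.zero_add, _root_.MulZeroClass.zero_mul, _root_.neg_zero, _root_.Matrix.cons_val', _root_.Matrix.cons_val_fin_one, Fin.isValue, _root_.Matrix.cons_val_zero, _root_.Matrix.cons_val_succ, _root_.forall_const]) <;> (repeat' with_reducible apply And.intro) <;> field_simp <;> ring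

omit S hφ hss in
/-- the diagonal matrix with `μ_0, μ_1 / μ_0, ..` -/
def dl {m : ℕ} (μ : Fin (m + 1) → Kˣ) (b : Fin (m + 2)) : Kˣ :=
  (Fin.snoc (α := fun _ => Kˣ) μ 1 b) * (Fin.cons (α := fun _ => Kˣ) 1 μ b)⁻¹

omit S hφ hss in
theorem prod_dl {m : ℕ} (μ : Fin (m + 1) → Kˣ) : ∏ b, dl μ b = 1 := by
  unfold dl
  rw [Finset.prod_mul_distrib, Finset.prod_inv_distrib, Fin.prod_univ_castSucc, Fin.prod_univ_succ (n := m + 1)]
  simp

omit S hφ hss in
theorem prod_coe {m : ℕ} {lam : Fin m → Kˣ} (h : ∏ b, lam b = 1) : ∏ b, ((lam b : Kˣ) : K) = 1 := by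
  rw [← Units.coe_prod, h, Units.val_one]

omit S hφ hss in
theorem dl_mul {m : ℕ} (μ ν : Fin (m + 1) → Kˣ) : dl (μ * ν) = dl μ * dl ν := by
  funext b
  have h1 : (Fin.snoc (α := fun _ => Kˣ) (μ * ν) 1 b : Kˣ) =
      Fin.snoc (α := fun _ => Kˣ) μ 1 b * Fin.snoc (α := fun _ => Kˣ) ν 1 b := by
    refine Fin.lastCases ?_ (fun i => ?_) b
    · simp
    · simp
  have h2 : (Fin.cons (α := fun _ => Kˣ) 1 (μ * ν) b : Kˣ) =
      Fin.cons (α := fun _ => Kˣ) 1 μ b * Fin.cons (α := fun _ => Kˣ) 1 ν b := by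
    refine Fin.cases ?_ (fun i => ?_) b
    · simp
    · simp
  rw [Pi.mul_apply, dl, dl, dl, h1, h2, mul_inv]
  exact mul_mul_mul_comm _ _ _ _

omit S hφ hss in
theorem dl_one {m : ℕ} : dl (1 : Fin (m + 1) → Kˣ) = 1 := by
  have h := dl_mul (K := K) (m := m) 1 1
  rw [one_mul] at h
  exact left_eq_mul.1 h

omit S hφ hss in
theorem dl_single {m : ℕ} (a : Fin (m + 1)) (u : Kˣ) (b : Fin (m + 2)) :
    dl (Pi.mulSingle a u) b = if b = a.castSucc then u else if b = a.succ then u⁻¹ else 1 := by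
  have h1 : (Fin.snoc (α := fun _ => Kˣ) (Pi.mulSingle a u : Fin (m + 1) → Kˣ) 1 b : Kˣ) =
      if b = a.castSucc then u else 1 := by
    refine Fin.lastCases ?_ (fun i => ?_) b
    · rw [Fin.snoc_last, if_neg (Fin.castSucc_lt_last a).ne']
    · rw [Fin.snoc_castSucc, Pi.mulSingle_apply]
      simp only [Fin.castSucc_inj]
  have h2 : (Fin.cons (α := fun _ => Kˣ) 1 (Pi.mulSingle a u : Fin (m + 1) → Kˣ) b : Kˣ) =
      if b = a.succ then u else 1 := by
    refine Fin.cases ?_ (fun i => ?_) b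
    · rw [Fin.cons_zero, if_neg (Fin.succ_ne_zero a).symm]
    · rw [Fin.cons_succ, Pi.mulSingle_apply]
      simp only [Fin.succ_inj]
  rw [dl, h1, h2]
  by_cases h3 : b = a.castSucc
  · subst h3
    rw [if_pos rfl, if_pos rfl, if_neg (cs_ne a), inv_one, mul_one]
  · rw [if_neg h3, if_neg h3, one_mul]
    split_ifs <;> simp

theorem phi_dl (μ : Fin (n + 1) → Kˣ) :
    φ (dgl (fun b => ((dl μ b : Kˣ) : K)) (prod_coe (prod_dl μ))) ∈ TT D K ∧
      ∀ q, (hq : q < D.nroots) → ch hp (_root_.Cfsg.Agent.Nodes.RGDChev.vec D l q) (φ (dgl (fun b => ((dl μ b : Kˣ) : K)) (prod_coe (prod_dl μ)))) =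
        ∏ a, ((μ a : Kˣ) : K) ^ D.cartan (j a) q := by
  refine Pi.mulSingle_induction (p := fun μ : Fin (n + 1) → Kˣ =>
    φ (dgl (fun b => ((dl μ b : Kˣ) : K)) (prod_coe (prod_dl μ))) ∈ TT D K ∧
      ∀ q, (hq : q < D.nroots) → ch hp (_root_.Cfsg.Agent.Nodes.RGDChev.vec D l q) (φ (dgl (fun b => ((dl μ b : Kˣ) : K)) (prod_coe (prod_dl μ)))) =
        ∏ a, ((μ a : Kˣ) : K) ^ D.cartan (j a) q) μ ?_ ?_ ?_
  · have h1 : dgl (fun b => ((dl (1 : Fin (n + 1) → Kˣ) b : Kˣ) : K)) (prod_coe (prod_dl 1)) = 1 := by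
      apply Subtype.ext
      change diagonal _ = 1
      rw [← diagonal_one]
      congr 1
      funext b
      rw [dl_one]; rfl
    rw [h1, map_one]
    refine ⟨one_mem _, fun q hq => ?_⟩
    have h2 := map_one (chH hp (K := K) hq)
    change ch hp (_root_.Cfsg.Agent.Nodes.RGDChev.vec D l q) (1 : ↥(D.group K)) = 1 at h2
    rw [h2]
    symm
    exact Finset.prod_eq_one fun a _ => by rw [Pi.one_apply, Units.val_one, _root_.one_zpow]
  · rintro μ ν ⟨h1, h2⟩ ⟨h3, h4⟩
    have e : dgl (fun b => ((dl (μ * ν) b : Kˣ) : K)) (prod_coe (prod_dl (μ * ν))) =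
        dgl (fun b => ((dl μ b : Kˣ) : K)) (prod_coe (prod_dl μ)) *
          dgl (fun b => ((dl ν b : Kˣ) : K)) (prod_coe (prod_dl ν)) := by
      apply Subtype.ext
      change diagonal _ = diagonal _ * diagonal _
      rw [diagonal_mul_diagonal]
      congr 1
      funext b
      rw [dl_mul, Pi.mul_apply, Units.val_mul]
    rw [e, map_mul]
    refine ⟨mul_mem h1 h3, fun q hq => ?_⟩
    have h5 := map_mul (chH hp (K := K) hq) ⟨_, h1⟩ ⟨_, h3⟩
    change ch hp (_root_.Cfsg.Agent.Nodes.RGDChev.vec D l q) _ = ch hp (_root_.Cfsg.Agent.Nodes.RGDChev.vec D l q) _ * ch hp (_root_.Cfsg.Agent.Nodes.RGDChev.vec D l q) _ at h5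
    rw [show (((⟨_, h1⟩ : ↥(TT D K)) * (⟨_, h3⟩ : ↥(TT D K)) : ↥(TT D K)) : ↥(D.group K)) = _ * _ from rfl] at h5
    rw [h5, h2 q hq, h4 q hq, ← Finset.prod_mul_distrib]
    exact Finset.prod_congr rfl fun a _ => by rw [Pi.mul_apply, Units.val_mul, mul_zpow]
  · intro a u
    have e : dgl (fun b => ((dl (Pi.mulSingle a u) b : Kˣ) : K)) (prod_coe (prod_dl (Pi.mulSingle a u))) =
        hab' a.castSucc a.succ (cs_ne a) u := by
      apply Subtype.ext
      change diagonal _ = diagonal _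
      congr 1
      funext b
      rw [dl_single]
      split_ifs <;> simp
    rw [e, phi_hab hp S hφ hss]
    refine ⟨hc_mem hp (j a) u.ne_zero, fun q hq => ?_⟩
    rw [ch_hc hp (j a) u.ne_zero hq, Finset.prod_eq_single a]
    · rw [Pi.mulSingle_eq_same]
    · intro c _ hc
      rw [Pi.mulSingle_eq_of_ne hc, Units.val_one, _root_.one_zpow]
    · intro h; exact absurd (Finset.mem_univ a) h

theorem phi_diag (lam : Fin (n + 2) → Kˣ) (hl : ∏ b, lam b = 1) :
    φ (dgl (fun b => ((lam b : Kˣ) : K)) (prod_coe hl)) ∈ TT D K ∧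
      ∀ q, (hq : q < D.nroots) → ch hp (_root_.Cfsg.Agent.Nodes.RGDChev.vec D l q) (φ (dgl (fun b => ((lam b : Kˣ) : K)) (prod_coe hl))) =
        ∏ b, ((lam b : Kˣ) : K) ^ wt D j q b := by
  set μ : Fin (n + 1) → Kˣ := fun a => ∏ b, if b ≤ a.castSucc then lam b else 1 with hμ
  have h1 : ∀ b : Fin (n + 2), (Fin.snoc (α := fun _ => Kˣ) μ 1 b : Kˣ) = ∏ c, if c ≤ b then lam c else 1 := by
    intro b
    refine Fin.lastCases ?_ (fun i => ?_) b
    · rw [Fin.snoc_last, ← hl]
      exact Finset.prod_congr rfl fun c _ => by rw [if_pos (Fin.le_last c)]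
    · rw [Fin.snoc_castSucc]
  have h2 : ∀ b : Fin (n + 2), (Fin.cons (α := fun _ => Kˣ) 1 μ b : Kˣ) = ∏ c, if c < b then lam c else 1 := by
    intro b
    refine Fin.cases ?_ (fun i => ?_) b
    · rw [Fin.cons_zero]
      symm
      exact Finset.prod_eq_one fun c _ => by rw [if_neg (Fin.not_lt_zero c)]
    · rw [Fin.cons_succ, hμ]
      refine Finset.prod_congr rfl fun c _ => ?_
      have : (c ≤ i.castSucc) ↔ (c < i.succ) := Fin.le_castSucc_iff
      simp only [this]
  have h3 : dl μ = lam := by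
    funext b
    rw [dl, h1, h2]
    have h4 : (∏ c, if c ≤ b then lam c else 1) = (∏ c, if c < b then lam c else 1) * lam b := by
      have h5 : ∀ c, (if c ≤ b then lam c else 1) = (if c < b then lam c else 1) * (if c = b then lam c else 1) := by
        intro c
        rcases lt_trichotomy c b with h | h | h
        · rw [if_pos h.le, if_pos h, if_neg h.ne, mul_one]
        · subst h
          rw [if_pos le_rfl, if_neg (lt_irrefl _), if_pos rfl, one_mul]
        · rw [if_neg (not_le.2 h), if_neg (not_lt.2 h.le), if_neg h.ne', one_mul]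
      rw [Finset.prod_congr rfl fun c _ => h5 c, Finset.prod_mul_distrib]
      congr 1
      rw [Finset.prod_ite_eq' Finset.univ b lam, if_pos (Finset.mem_univ b)]
    rw [h4, mul_comm, inv_mul_cancel_left]
  obtain ⟨h4, h5⟩ := phi_dl hp S hφ hss μ
  have e : dgl (fun b => ((dl μ b : Kˣ) : K)) (prod_coe (prod_dl μ)) = dgl (fun b => ((lam b : Kˣ) : K)) (prod_coe hl) := by
    apply Subtype.ext
    change diagonal _ = diagonal _
    rw [h3]
  rw [e] at h4 h5
  refine ⟨h4, fun q hq => ?_⟩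
  rw [h5 q hq]
  have h6 : ∀ a, ((μ a : Kˣ) : K) ^ D.cartan (j a) q =
      ∏ b, ((lam b : Kˣ) : K) ^ (if b ≤ a.castSucc then D.cartan (j a) q else 0) := by
    intro a
    rw [hμ, Units.coe_prod, ← Finset.prod_zpow]
    refine Finset.prod_congr rfl fun b _ => ?_
    split_ifs
    · rfl
    · rw [Units.val_one, _root_.one_zpow, zpow_zero]
  rw [Finset.prod_congr rfl fun a _ => h6 a, Finset.prod_comm]
  refine Finset.prod_congr rfl fun b _ => ?_
  have h7 : ∀ (t : Finset (Fin (n + 1))) (g : Fin (n + 1) → ℤ), ∏ a ∈ t, ((lam b : Kˣ) : K) ^ g a =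
      ((lam b : Kˣ) : K) ^ ∑ a ∈ t, g a := by
    intro t g
    classical
    induction t using Finset.induction_on with
    | empty => simp
    | insert a t ha ih => rw [Finset.prod_insert ha, Finset.sum_insert ha, zpow_add₀ (lam b).ne_zero, ih]
  exact h7 _ _

end phi

end Cfsg.Agent.H482.Ore.Fix
end

private theorem dce_77a7bcb815f8 : _root_.True := by
  try have : _root_.True := by simp only [_root_.Cfsg.Lie.ChevalleyDatum.diagonalSubgroup.eq_1]
  try have : _root_.True := by simp only [_root_.Cfsg.Agent.H482.Ore.Fix.dl.eq_1]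
  try have : _root_.True := by simp only [_root_.Cfsg.Agent.KFacts.RgdChevCoord.hc.congr_simp]
  exact _root_.True.intro
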